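-- Project TSO (S5980): packages [RANK3] and [RANK3'] (helper24).
import Mathlib
import Cfsg.Agent.Lib.Helper57.TSO.Defs
import Cfsg.Agent.Lib.Helper40.Tensor

set_option autoImplicit false

namespace Cfsg.Agent.Lib.Helper24.TSO

open Matrix
open scoped Kronecker

universe u

/-- A linear map from a finite-dimensional space on which `M` is injective bounds the rank. -/
theorem rank_ge_of_inj' {F : Type u} [Field F] {ι : Type*} [Fintype ι] [DecidableEq ι]
    {W : Type*} [AddCommGroup W] [Module F W] [FiniteDimensional F W] (M : Matrix ι ι F)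
    (φ : W →ₗ[F] (ι → F)) (h : ∀ w, M *ᵥ φ w = 0 → w = 0) : Module.finrank F W ≤ M.rank := by
  have hinj : Function.Injective (M.mulVecLin ∘ₗ φ) := by
    rw [← LinearMap.ker_eq_bot, LinearMap.ker_eq_bot']
    intro w hw
    exact h w hw
  have h1 := LinearMap.finrank_range_of_inj hinj
  have h2 : LinearMap.range (M.mulVecLin ∘ₗ φ) ≤ LinearMap.range M.mulVecLin :=
    LinearMap.range_comp_le_range _ _
  have h3 := Submodule.finrank_mono h2
  rw [h1] at h3
  exact h3

/-- `(y₁, y₂) ↦ v ⊗ y₁ + v' ⊗ y₂`. -/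
def phi3 {F : Type u} [Field F] {a b : ℕ} (v v' : Fin a → F) :
    ((Fin b → F) × (Fin b → F)) →ₗ[F] (Fin a × Fin b → F) where
  toFun y := fun ij => v ij.1 * y.1 ij.2 + v' ij.1 * y.2 ij.2
  map_add' y z := by
    funext ij
    simp only [Prod.fst_add, Prod.snd_add, Pi.add_apply]
    ring
  map_smul' c y := by
    funext ij
    simp only [Prod.smul_fst, Prod.smul_snd, Pi.smul_apply, smul_eq_mul, RingHom.id_apply]
    ring

/-- `(x₁, x₂) ↦ x₁ ⊗ w + x₂ ⊗ w'`. -/
def phi3' {F : Type u} [Field F] {a b : ℕ} (w w' : Fin b → F) :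
    ((Fin a → F) × (Fin a → F)) →ₗ[F] (Fin a × Fin b → F) where
  toFun x := fun ij => x.1 ij.1 * w ij.2 + x.2 ij.1 * w' ij.2
  map_add' y z := by
    funext ij
    simp only [Prod.fst_add, Prod.snd_add, Pi.add_apply]
    ring
  map_smul' c y := by
    funext ij
    simp only [Prod.smul_fst, Prod.smul_snd, Pi.smul_apply, smul_eq_mul, RingHom.id_apply]
    ring

theorem kron_mulVec_add {F : Type u} [Field F] {a b : ℕ} (A : Matrix (Fin a) (Fin a) F)
    (B : Matrix (Fin b) (Fin b) F) (v v' : Fin a → F) (w w' : Fin b → F) :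
    (A ⊗ₖ B) *ᵥ (fun ij : Fin a × Fin b => v ij.1 * w ij.2 + v' ij.1 * w' ij.2) =
      fun ij => (A *ᵥ v) ij.1 * (B *ᵥ w) ij.2 + (A *ᵥ v') ij.1 * (B *ᵥ w') ij.2 := by
  have h : (fun ij : Fin a × Fin b => v ij.1 * w ij.2 + v' ij.1 * w' ij.2) =
      (fun ij : Fin a × Fin b => v ij.1 * w ij.2) + (fun ij => v' ij.1 * w' ij.2) := rfl
  rw [h, Matrix.mulVec_add, Helper40.Tensor.kron_mulVec, Helper40.Tensor.kron_mulVec]
  rfl

theorem pkgRank3 : Cfsg.Agent.Lib.Helper57.TSO.PkgRank3.{u} := by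
  intro F _ a b A B _ v hind
  have hfin : Module.finrank F ((Fin b → F) × (Fin b → F)) = 2 * b := by
    rw [Module.finrank_prod, Module.finrank_fin_fun]
    ring
  rw [← hfin]
  refine rank_ge_of_inj' (A ⊗ₖ B - 1) (phi3 v (A *ᵥ v)) ?_
  intro y hy
  rw [Matrix.sub_mulVec, Matrix.one_mulVec] at hy
  have hy' : (A ⊗ₖ B) *ᵥ (fun ij : Fin a × Fin b => v ij.1 * y.1 ij.2 + (A *ᵥ v) ij.1 * y.2 ij.2)
      - (fun ij : Fin a × Fin b => v ij.1 * y.1 ij.2 + (A *ᵥ v) ij.1 * y.2 ij.2) = 0 := hy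
  rw [kron_mulVec_add] at hy'
  have key : ∀ j : Fin b, -(y.1 j) = 0 ∧ (B *ᵥ y.1) j - y.2 j = 0 ∧ (B *ᵥ y.2) j = 0 := by
    intro j
    apply hind
    funext i
    have h := congrFun hy' (i, j)
    simp only [Pi.sub_apply, Pi.zero_apply] at h
    simp only [Pi.add_apply, Pi.smul_apply, smul_eq_mul, Pi.zero_apply]
    linear_combination h
  have h1 : y.1 = 0 := by
    funext j
    have := (key j).1
    simpa using this
  have h2 : y.2 = 0 := by
    funext j
    have := (key j).2.1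
    rw [h1, Matrix.mulVec_zero] at this
    simpa using this
  exact Prod.ext h1 h2

theorem pkgRank3' : Cfsg.Agent.Lib.Helper57.TSO.PkgRank3'.{u} := by
  intro F _ a b A B _ w hind
  have hfin : Module.finrank F ((Fin a → F) × (Fin a → F)) = 2 * a := by
    rw [Module.finrank_prod, Module.finrank_fin_fun]
    ring
  rw [← hfin]
  refine rank_ge_of_inj' (A ⊗ₖ B - 1) (phi3' w (B *ᵥ w)) ?_
  intro x hx
  rw [Matrix.sub_mulVec, Matrix.one_mulVec] at hx
  have hx' : (A ⊗ₖ B) *ᵥ (fun ij : Fin a × Fin b => x.1 ij.1 * w ij.2 + x.2 ij.1 * (B *ᵥ w) ij.2)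
      - (fun ij : Fin a × Fin b => x.1 ij.1 * w ij.2 + x.2 ij.1 * (B *ᵥ w) ij.2) = 0 := hx
  rw [kron_mulVec_add] at hx'
  have key : ∀ i : Fin a, -(x.1 i) = 0 ∧ (A *ᵥ x.1) i - x.2 i = 0 ∧ (A *ᵥ x.2) i = 0 := by
    intro i
    apply hind
    funext j
    have h := congrFun hx' (i, j)
    simp only [Pi.sub_apply, Pi.zero_apply] at h
    simp only [Pi.add_apply, Pi.smul_apply, smul_eq_mul, Pi.zero_apply]
    linear_combination h
  have h1 : x.1 = 0 := by
    funext i
    have := (key i).1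
    simpa using this
  have h2 : x.2 = 0 := by
    funext i
    have := (key i).2.1
    rw [h1, Matrix.mulVec_zero] at this
    simpa using this
  exact Prod.ext h1 h2

end Cfsg.Agent.Lib.Helper24.TSO
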